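import Groth.Agent.Lib.DerVanish9.Ideal

/-!
Derived completeness along a map of sheaves of rings on one site.
-/

set_option autoImplicit false
set_option linter.unusedSectionVars false
set_option linter.style.haveILetI false
set_option backward.isDefEq.respectTransparency false
set_option backward.isDefEq.respectTransparency.types false

universe u

open CategoryTheory CategoryTheory.Limits Opposite DerComp

attribute [local instance] HasDerivedCategory.standard

namespace Groth.Agent.DerVanish9

open SiteLpull9

variable {C : Type u} [SmallCategory C] {J : GrothendieckTopology C} {O O' : Sheaf J CommRingCat.{u}}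
  (φ : O ⟶ O')

/-- A map of sheaves of rings as a morphism of ringed sites. -/
noncomputable def ringMor : ModSite.RMor O' O where
  fn := 𝟭 C
  exact := (ModSite.RMor.id O).exact
  sharp := ⟨φ.hom⟩

/-- Direct image along `ringMor` is restriction of scalars. -/
noncomputable def ringMorPushIso :
    SheafOfModules.restrictScalars.{u} ((sheafCompose J (forget₂ CommRingCat.{u} RingCat.{u})).map φ) ≅
      (ringMor φ).push :=
  NatIso.ofComponents (fun _ => Iso.refl _) fun _ => by
    ext
    rfl

theorem hasRpushD_ringMor [PreservesFiniteLimits (ringMor φ).push] [PreservesFiniteColimits (ringMor φ).push] :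
    SiteCmp.HasRpushD (ringMor φ) ∧ ∀ [SiteCmp.HasRpushD (ringMor φ)],
      Nonempty ((ringMor φ).push.mapDerivedCategory ≅ SiteCmp.RpushD (ringMor φ)) := by
  let W := HomotopyCategory.quasiIso (ModSite.Mod O') (ComplexShape.up ℤ)
  let F := (ringMor φ).push
  let e : SiteCmp.pushKh (ringMor φ) ≅ DerivedCategory.Qh ⋙ F.mapDerivedCategory :=
    F.mapDerivedCategoryFactorsh.symm
  haveI : F.mapDerivedCategory.IsRightDerivedFunctor e.hom W :=
    Functor.isRightDerivedFunctor_of_inverts W _ F.mapDerivedCategoryFactorsh
  refine ⟨Functor.HasRightDerivedFunctor.mk' F.mapDerivedCategory e.hom, fun {_} => ⟨?_⟩⟩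
  exact Functor.rightDerivedUnique F.mapDerivedCategory (SiteCmp.RpushD (ringMor φ)) e.hom
    ((SiteCmp.pushKh (ringMor φ)).totalRightDerivedUnit DerivedCategory.Qh W) W

theorem perpObj_iff {K : DerivedCategory (ModSite.Mod O)} {M : ModSite.Mod O} :
    PerpObj K M ↔ ∀ a : ℤ, Subsingleton ((DerivedCategory.singleFunctor _ a).obj M ⟶ K) := by
  refine ⟨fun h a => ?_, fun h a n => ?_⟩
  · exact (Iso.homCongr (Iso.refl _) ((shiftFunctorZero (DerivedCategory (ModSite.Mod O)) ℤ).app K).symm
      ).subsingleton_congr.2 (h a 0)
  · exact ((((shiftEquiv' (DerivedCategory (ModSite.Mod O)) (-n) n (neg_add_cancel n)).toAdjunction.homEquiv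
      ((DerivedCategory.singleFunctor _ a).obj M) K).symm).trans
      (Iso.homCongr (((DerivedCategory.singleFunctors _).shiftIso (-n) (a + n) a (by omega)).app M)
        (Iso.refl K))).subsingleton_congr.2 (h (a + n))

/-- Isomorphic exact functors induce isomorphic functors on derived categories. -/
noncomputable def mapDerivedIso {A B : Type*} [Category A] [Category B] [Abelian A] [Abelian B]
    [HasDerivedCategory A] [HasDerivedCategory B] {F G : A ⥤ B} [F.Additive] [G.Additive]
    [PreservesFiniteLimits F] [PreservesFiniteColimits F] [PreservesFiniteLimits G]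
    [PreservesFiniteColimits G] (e : F ≅ G) : F.mapDerivedCategory ≅ G.mapDerivedCategory :=
  Localization.liftNatIso DerivedCategory.Qh (HomotopyCategory.quasiIso A (ComplexShape.up ℤ))
    (F.mapHomotopyCategory (ComplexShape.up ℤ) ⋙ DerivedCategory.Qh)
    (G.mapHomotopyCategory (ComplexShape.up ℤ) ⋙ DerivedCategory.Qh) _ _
    (Functor.isoWhiskerRight
      { hom := NatTrans.mapHomotopyCategory e.hom _
        inv := NatTrans.mapHomotopyCategory e.inv _
        hom_inv_id := by rw [← NatTrans.mapHomotopyCategory_comp, e.hom_inv_id, NatTrans.mapHomotopyCategory_id]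
        inv_hom_id := by rw [← NatTrans.mapHomotopyCategory_comp, e.inv_hom_id, NatTrans.mapHomotopyCategory_id] }
      DerivedCategory.Qh)

theorem good_restrict_iff [PreservesFiniteLimits (SheafOfModules.restrictScalars.{u}
      ((sheafCompose J (forget₂ CommRingCat.{u} RingCat.{u})).map φ))]
    [PreservesFiniteColimits (SheafOfModules.restrictScalars.{u}
      ((sheafCompose J (forget₂ CommRingCat.{u} RingCat.{u})).map φ))]
    (K' : DerivedCategory (ModSite.Mod O')) (V : C) (f : O.obj.obj (op V)) :
    Good O ((SheafOfModules.restrictScalars.{u}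
        ((sheafCompose J (forget₂ CommRingCat.{u} RingCat.{u})).map φ)).mapDerivedCategory.obj K') V f ↔
      Good O' K' V ((φ.hom.app (op V)).hom f) := by
  haveI : PreservesFiniteLimits (ringMor φ).push := preservesFiniteLimits_of_natIso (ringMorPushIso φ)
  haveI : PreservesFiniteColimits (ringMor φ).push :=
    preservesFiniteColimits_of_natIso (ringMorPushIso φ)
  obtain ⟨hR, hiso⟩ := hasRpushD_ringMor φ
  haveI := hR
  obtain ⟨ι⟩ := hiso
  let iK := (mapDerivedIso (ringMorPushIso φ)).app K' ≪≫ ι.app K'
  obtain ⟨G', α, adj, hα⟩ := exists_adjunction (ringMor φ)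
  obtain ⟨e, he⟩ := pull_mu (ringMor φ) V f
  rw [Good, Good, perpObj_iff, perpObj_iff]
  refine forall_congr' fun a => ?_
  obtain ⟨i⟩ := nonempty_left_tel (ringMor φ) G' α hα (ModFlat16.isFlat_freeOn O V) (mu O V f) _ e he a
  exact (((Iso.homCongr (Iso.refl _) iK).trans (adj.homEquiv _ _).symm).trans
    (Iso.homCongr i (Iso.refl K'))).subsingleton_congr

end Groth.Agent.DerVanish9
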