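import Groth.Agent.Lib.DerVanish9.Ideal
import Groth.Agent.Lib.KFlat.AcyclicLeft
import Groth.Agent.Lib.KFlat.Site

/-!
Unbounded complexes with invertible terms are orthogonal; localisations are flat.
-/

set_option autoImplicit false
set_option linter.unusedSectionVars false
set_option linter.style.haveILetI false
set_option backward.isDefEq.respectTransparency false
set_option backward.isDefEq.respectTransparency.types false

universe u

open CategoryTheory CategoryTheory.Limits Opposite DerComp

attribute [local instance] HasDerivedCategory.standard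

namespace Groth.Agent.DerVanish9

open SiteLpull9

variable {C : Type u} [SmallCategory C] {J : GrothendieckTopology C} {O : Sheaf J CommRingCat.{u}}
  {K : DerivedCategory (ModSite.Mod O)}

theorem inv_truncLE {s : GSec O} (X : CochainComplex (ModSite.Mod O) ℤ) (hX : ∀ i, Inv s (X.X i))
    (n i : ℤ) : Inv s ((X.truncLE n).X i) := by
  rcases lt_trichotomy i n with h | rfl | h
  · haveI := KFlat.isIso_ιTruncLE_f X h
    exact (Inv s).prop_of_iso (asIso ((X.ιTruncLE n).f i)).symm (hX i)
  · refine (Inv s).prop_of_iso (HomologicalComplex.truncLEXIsoCycles X (ComplexShape.embeddingUpIntLE i)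
      (i := 0) (by simp) ?_).symm
      ((Inv s).prop_of_isLimit_kernelFork (X.cyclesIsKernel i (i + 1) (by simp)) (hX i) (hX (i + 1)))
    rw [ComplexShape.boundaryLE_embeddingUpIntLE_iff]
  · exact Inv.of_isZero ((X.truncLE n).isZero_of_isStrictlyLE n i h)

/-- Orthogonality of unbounded complexes with invertible terms. -/
theorem perp_complex {U : C} {s : GSec (O.over U)}
    (h : ∀ M, Inv s M → PerpObj K ((ModSite.extZero O U).obj M))
    (X : CochainComplex (ModSite.Mod (O.over U)) ℤ) (hX : ∀ i, Inv s (X.X i)) :
    Perp K (DerivedCategory.Q.obj (((ModSite.extZero O U).mapHomologicalComplex (ComplexShape.up ℤ)).obj X)) := by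
  haveI : IsGrothendieckAbelian.{u} (ModSite.Mod O) :=
    CohFound.isGrothendieckAbelian_sheafOfModules (ModSite.ringSh O)
  let E := (ModSite.extZero O U).mapHomologicalComplex (ComplexShape.up ℤ)
  haveI : PreservesColimitsOfSize.{0, 0} (ModSite.extZero O U) :=
    (ModSite.extZeroAdj O U).leftAdjoint_preservesColimits
  have hc : IsColimit (E.mapCocone (KFlat.truncCocone X)) := by
    refine HomologicalComplex.isColimitOfEval _ _ fun i => ?_
    exact isColimitOfPreserves (HomologicalComplex.eval _ _ i ⋙ ModSite.extZero O U)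
      (KFlat.isColimitTruncCocone X)
  refine (Perp.colimit_seq _ fun n => ?_).iso
    (DerivedCategory.Q.mapIso ((colimit.isColimit _).coconePointUniqueUpToIso hc))
  haveI : CochainComplex.IsStrictlyLE (E.obj (X.truncLE (n : ℤ))) (n : ℤ) := by
    rw [CochainComplex.isStrictlyLE_iff]
    intro i hi
    exact (ModSite.extZero O U).map_isZero ((X.truncLE (n : ℤ)).isZero_of_isStrictlyLE n i hi)
  exact Perp.boundedAbove (E.obj (X.truncLE (n : ℤ))) n fun i a => h _ (inv_truncLE X hX n i) a

open KFlat.Site in
/-- The telescope of a flat module is flat. -/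
theorem isFlat_tel {X : ModSite.Mod O} (hX : ModSite.IsFlat X) (μ : X ⟶ X) :
    KFlat.IsFlat (TS O) (Tel μ) := by
  haveI : IsGrothendieckAbelian.{u} (ModSite.Mod O) :=
    CohFound.isGrothendieckAbelian_sheafOfModules (ModSite.ringSh O)
  haveI : AB5OfSize.{0, 0} (ModSite.Mod O) := AB5OfSize_shrink.{0, 0, u, u} (ModSite.Mod O)
  haveI : HasExactColimitsOfShape ℕ (ModSite.Mod O) := AB5OfSize.ofShape _
  let F : ℕ ⥤ ModSite.Mod O := Functor.ofSequence (X := fun _ => X) fun _ => μ
  have hF : ∀ n, F.map (homOfLE (Nat.le_succ n)) = μ := fun n =>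
    Functor.ofSequence_map_homOfLE_succ _ n
  have hc : ∀ n, colimit.ι F n = μ ≫ colimit.ι F (n + 1) := fun n =>
    (colimit.w F (homOfLE (Nat.le_succ n))).symm.trans (congrArg (· ≫ colimit.ι F (n + 1)) (hF n))
  let c : Cocone F := ⟨Tel μ, NatTrans.ofSequence (fun n => telι μ n) fun n => by
    rw [hF]
    exact (telι_rel _ n).symm.trans (Category.comp_id _).symm⟩
  let e : colimit F ≅ Tel μ :=
    { hom := colimit.desc F c
      inv := telDesc μ (fun n => colimit.ι F n) hc
      hom_inv_id := colimit.hom_ext fun n => by
        rw [colimit.ι_desc_assoc, Category.comp_id]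
        exact telι_telDesc μ _ hc n
      inv_hom_id := tel_hom_ext μ fun n => by
        rw [← Category.assoc, telι_telDesc, Category.comp_id]
        exact colimit.ι_desc c n }
  exact (KFlat.isFlat_colimit (colimit.isColimit F) fun _ => (isFlat_iff _).2 hX).of_iso e.symm

end Groth.Agent.DerVanish9
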