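import Groth.Agent.Lib.DerVanish9.Complex
import Groth.Agent.Lib.DerVanish9.Restrict
import Groth.Agent.Lib.ModFlat16.Proj
import Groth.Agent.Lib.KFlat8.SiteLT

/-!
Tensor products with a localisation: derived completeness of internal derived homs.
-/

set_option autoImplicit false
set_option linter.unusedSectionVars false
set_option linter.style.haveILetI false
set_option backward.isDefEq.respectTransparency false
set_option backward.isDefEq.respectTransparency.types false

universe u

open CategoryTheory CategoryTheory.Limits Opposite DerComp MonoidalCategory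

attribute [local instance] HasDerivedCategory.standard

namespace Groth.Agent.DerVanish9

open SiteLpull9 KFlat KFlat.Site

variable {C : Type u} [SmallCategory C] {J : GrothendieckTopology C} {O : Sheaf J CommRingCat.{u}}

theorem tensor_smulEnd (s : GSec O) (A N : ModSite.Mod O) :
    ((TS O).map (smulEnd s A)).app N = smulEnd s (((TS O).obj A).obj N) := by
  apply ((KFlat.Site.adj O).homEquiv _ _).injective
  rw [Adjunction.homEquiv_unit, Adjunction.homEquiv_unit]
  refine ((KFlat.Site.adj O).unit.naturality
    ((ModSite.toPre O).map (smulEnd s A) ▷ (ModSite.toPre O).obj N)).symm.trans ?_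
  ext X z
  show (((KFlat.Site.adj O).unit.app _).app X).hom
      ((((ModSite.toPre O).map (smulEnd s A)) ▷ (ModSite.toPre O).obj N).app X z) =
    GSec.val' s X • (((KFlat.Site.adj O).unit.app _).app X).hom z
  rw [← LinearMap.map_smul]
  congr 1

theorem inv_tensor {s : GSec O} {A : ModSite.Mod O} (h : Inv s A) (N : ModSite.Mod O) :
    Inv s (((TS O).obj A).obj N) := by
  haveI : IsIso (smulEnd s A) := h
  show IsIso (smulEnd s _)
  rw [← tensor_smulEnd]
  infer_instance

section Shifted

variable {A : Type*} [Category A] [Abelian A] {B : Type*} [Category B] [Abelian B]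
  (F : A ⥤ B) [F.PreservesZeroMorphisms]

/-- The image of a complex, renumbered. -/
def mapRenum (P : CochainComplex A ℤ) (a : ℤ) : CochainComplex B ℤ where
  X n := F.obj (P.X (n - a))
  d i j := F.map (P.d (i - a) (j - a))
  shape i j h := by
    rw [P.shape, F.map_zero]
    simp only [ComplexShape.up_Rel] at h ⊢
    omega
  d_comp_d' i j k _ _ := by rw [← F.map_comp, P.d_comp_d, F.map_zero]

end Shifted

variable (P : CochainComplex (ModSite.Mod O) ℤ)

/-- A single module tensor a complex, termwise. -/
theorem nonempty_single_tensor (a : ℤ) (U : C) (A : ModSite.Mod (O.over U)) :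
    Nonempty (((ModSite.extZero O U).mapHomologicalComplex (ComplexShape.up ℤ)).obj
        (mapRenum (ModSite.restr O U ⋙ (TS (O.over U)).obj A) P a) ≅
      (KFlat8.G P).obj ((HomologicalComplex.single (ModSite.Mod O) (ComplexShape.up ℤ) a).obj
        ((ModSite.extZero O U).obj A))) := by
  let T' := (ModSite.extZero O U).obj A
  let S := (HomologicalComplex.single (ModSite.Mod O) (ComplexShape.up ℤ) a).obj T'
  let iX : ∀ n, (ModSite.extZero O U).obj
      (((TS (O.over U)).obj A).obj ((ModSite.restr O U).obj (P.X (n - a)))) ≅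
      (((tcx (TS O).flip).obj P).obj S).X n := fun n =>
    (ModFlat16.projRight O U A).app (P.X (n - a)) ≪≫
      singleTotalIso (T := (TS O).flip) P a T' (sub_add_cancel n a)
  refine ⟨?_ ≪≫ flipIso (TS O) P S⟩
  refine HomologicalComplex.Hom.isoOfComponents iX fun i j hij => ?_
  simp only [ComplexShape.up_Rel] at hij
  have h₁ := singleTotalIso_d (T := (TS O).flip) P a T' (sub_add_cancel i a) (sub_add_cancel j a)
    (show i - a + 1 = j - a by omega)
  have h₂ := (ModFlat16.projRight O U A).hom.naturality (P.d (i - a) (j - a))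
  dsimp only [iX, Iso.trans_hom, Iso.app_hom]
  rw [Category.assoc]
  refine (congrArg (_ ≫ ·) h₁.symm).trans ?_
  exact (Category.assoc _ _ _).symm.trans ((congrArg (· ≫ _) h₂.symm).trans (Category.assoc _ _ _))

/-- `RHom(P, L)` is derived complete when `L` is. -/
theorem isDerComp_rhom (I : IdealSh O) [ModSite.HasLTensorCx P] [HasRHom P]
    (L : DerivedCategory (ModSite.Mod O)) (hL : IsDerComp O I L) : IsDerComp O I ((RHom P).obj L) := by
  intro U f hf n
  refine (good_iff O _ U f).2 ?_ n
  rw [Good, perpObj_iff]
  intro a
  have hh : GoodAll L U f := (isDerComp_iff_le L I).1 hL U hf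
  let A := awayOver O U f
  let T' := (ModSite.extZero O U).obj A
  have hT : KFlat.IsFlat (TS O) T' :=
    (isFlat_tel (ModFlat16.isFlat_freeOn O U) (mu O U f)).of_iso (extAwayIso O U f)
  haveI := KFlat8.isIso_counit' P ((HomologicalComplex.single (ModSite.Mod O) (ComplexShape.up ℤ) a).obj T')
    (KFlat.isKFlat_single (T := (TS O).flip) a _ hT.flip)
  obtain ⟨e⟩ := nonempty_single_tensor P a U A
  let i : (ModSite.LTensorCx P).obj ((DerivedCategory.singleFunctor _ a).obj T') ≅
      DerivedCategory.Q.obj (((ModSite.extZero O U).mapHomologicalComplex (ComplexShape.up ℤ)).obj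
        (mapRenum (ModSite.restr O U ⋙ (TS (O.over U)).obj A) P a)) :=
    asIso ((KFlat8.counit P).app ((HomologicalComplex.single _ _ a).obj T')) ≪≫ DerivedCategory.Q.mapIso e.symm
  have hP : Perp L ((ModSite.LTensorCx P).obj ((DerivedCategory.singleFunctor _ a).obj T')) :=
    (perp_complex (s := GSec.ofSect O U f) hh.perp_ext _
      fun k => inv_tensor (inv_tel _ _) _).iso i.symm
  have h0 : Subsingleton ((ModSite.LTensorCx P).obj ((DerivedCategory.singleFunctor _ a).obj T') ⟶ L) :=
    (Iso.homCongr (Iso.refl _) ((shiftFunctorZero (DerivedCategory (ModSite.Mod O)) ℤ).app L).symm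
      ).subsingleton_congr.2 (hP 0)
  exact (((Iso.homCongr ((DerivedCategory.singleFunctor _ a).mapIso (extAwayIso O U f)).symm
    (Iso.refl ((RHom P).obj L))).trans ((RHomAdj P).homEquiv _ L).symm)).subsingleton_congr.2 h0

end Groth.Agent.DerVanish9
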