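import Groth.Agent.Lib.DerVanish9.Slice

/-!
The sections whose localisations are orthogonal to `K` form a sheaf of ideals.
-/

set_option autoImplicit false
set_option linter.unusedSectionVars false
set_option linter.style.haveILetI false
set_option backward.isDefEq.respectTransparency false
set_option backward.isDefEq.respectTransparency.types false

universe u

open CategoryTheory CategoryTheory.Limits Opposite DerComp

attribute [local instance] HasDerivedCategory.standard

namespace Groth.Agent.DerVanish9

open SiteLpull9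

variable {C : Type u} [SmallCategory C] {J : GrothendieckTopology C} {O : Sheaf J CommRingCat.{u}}

theorem map_map {U V W : C} (g : V ⟶ U) (q : W ⟶ V) (f : O.obj.obj (op U)) :
    (O.obj.map q.op).hom ((O.obj.map g.op).hom f) = (O.obj.map (q ≫ g).op).hom f := by
  rw [op_comp, Functor.map_comp]
  rfl

theorem map_id {U : C} (f : O.obj.obj (op U)) : (O.obj.map (𝟙 U).op).hom f = f := by
  rw [op_id, CategoryTheory.Functor.map_id]
  rfl

theorem ofSect_mul (U : C) (f g : O.obj.obj (op U)) :
    GSec.ofSect O U (f * g) = GSec.ofSect O U f * GSec.ofSect O U g :=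
  Subtype.ext (funext fun V => map_mul (O.obj.map V.hom.op).hom f g)

theorem ofSect_add (U : C) (f g : O.obj.obj (op U)) :
    GSec.ofSect O U (f + g) = GSec.ofSect O U f + GSec.ofSect O U g :=
  Subtype.ext (funext fun V => map_add (O.obj.map V.hom.op).hom f g)

theorem ofSect_zero (U : C) : GSec.ofSect O U 0 = 0 :=
  Subtype.ext (funext fun V => map_zero (O.obj.map V.hom.op).hom)

variable (K : DerivedCategory (ModSite.Mod O))

/-- All restrictions of `f` have orthogonal localisations. -/
def GoodAll (U : C) (f : O.obj.obj (op U)) : Prop :=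
  ∀ (V : C) (g : V ⟶ U), Good O K V ((O.obj.map g.op).hom f)

variable {K}

theorem GoodAll.map {U V : C} {f : O.obj.obj (op U)} (h : GoodAll K U f) (g : V ⟶ U) :
    GoodAll K V ((O.obj.map g.op).hom f) := fun W q => by
  rw [map_map]
  exact h W _

theorem good_zero (V : C) : Good O K V 0 := by
  refine perpObj_of_isZero ((IsZero.iff_id_eq_zero _).2 (tel_hom_ext _ fun n => ?_))
  have h0 : mu O V 0 = 0 := by
    show (ModSite.extZero O V).map (smulEnd (GSec.ofSect O V 0) _) = 0
    rw [ofSect_zero, smulEnd_zero, Functor.map_zero]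
  rw [Category.comp_id, comp_zero, telι_rel]
  simp [h0]

/-- Orthogonality of the localisation from orthogonality of the invertible modules. -/
theorem good_of_perp (V : C) (f : O.obj.obj (op V))
    (h : ∀ M, Inv (GSec.ofSect O V f) M → PerpObj K ((ModSite.extZero O V).obj M)) : Good O K V f :=
  (h _ (inv_tel _ _)).iso (extAwayIso O V f)

theorem GoodAll.perp_ext {V : C} {f : O.obj.obj (op V)} (h : GoodAll K V f) (M : ModSite.Mod (O.over V))
    (hM : Inv (GSec.ofSect O V f) M) : PerpObj K ((ModSite.extZero O V).obj M) := by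
  refine perpObj_ext K (GSec.ofSect O V f) Set.univ (fun X => ?_) (fun A _ => ?_) M hM
  · refine ⟨PUnit, fun _ => X, fun _ => 𝟙 X, ?_, fun _ => trivial⟩
    exact (J.over V).superset_covering
      (fun W q _ => ⟨X, q, 𝟙 X, Presieve.ofArrows.mk (Y := fun _ : PUnit.{u + 1} => X) PUnit.unit,
        Category.comp_id _⟩) ((J.over V).top_mem X)
  · exact h A.left A.hom

theorem good_of_sieve {V : C} (f : O.obj.obj (op V)) {S : Sieve V} (hS : S ∈ J V)
    (h : ∀ ⦃W : C⦄ (q : W ⟶ V), S q → Good O K W ((O.obj.map q.op).hom f)) : Good O K V f := by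
  refine good_of_perp V f fun M hM => perpObj_ext K (GSec.ofSect O V f) {A | S A.hom} (fun X => ?_)
    (fun A hA => h (W := A.left) A.hom hA) M hM
  refine ⟨Σ W : C, {q : W ⟶ X.left // S (q ≫ X.hom)}, fun i => Over.mk (i.2.1 ≫ X.hom),
    fun i => Over.homMk i.2.1, ?_, fun i => i.2.2⟩
  rw [GrothendieckTopology.mem_over_iff]
  refine J.superset_covering (fun W q hq => ?_) (J.pullback_stable X.hom hS)
  rw [Sieve.overEquiv_iff]
  exact Sieve.ofArrows_mk (fun i : Σ W : C, {q : W ⟶ X.left // S (q ≫ X.hom)} => Over.mk (i.2.1 ≫ X.hom))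
    (fun i => Over.homMk i.2.1) ⟨W, ⟨q, hq⟩⟩

theorem GoodAll.mul {U : C} {f : O.obj.obj (op U)} (h : GoodAll K U f) (a : O.obj.obj (op U)) :
    GoodAll K U (a * f) := fun V g => by
  refine good_of_perp V _ fun M hM => ((h.map g).perp_ext M ?_)
  rw [map_mul, ofSect_mul] at hM
  exact hM.of_mul

theorem GoodAll.add {U : C} {f g : O.obj.obj (op U)} (hf : GoodAll K U f) (hg : GoodAll K U g) :
    GoodAll K U (f + g) := fun V p => by
  rw [map_add]
  replace hf := hf.map p
  replace hg := hg.map p
  generalize (O.obj.map p.op).hom f = f at hf ⊢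
  generalize (O.obj.map p.op).hom g = g at hg ⊢
  refine good_of_perp V _ fun M hM => ?_
  rw [ofSect_add] at hM
  set s := GSec.ofSect O V f
  set t := GSec.ofSect O V g
  let E := ModSite.extZero O V
  haveI := ModFlat16.preservesFiniteLimits_extZero O V
  haveI : PreservesColimitsOfSize.{u, u} E := (ModSite.extZeroAdj O V).leftAdjoint_preservesColimits
  haveI : PreservesFiniteColimits E := PreservesColimitsOfSize.preservesFiniteColimits _
  haveI : IsGrothendieckAbelian.{u} (ModSite.Mod O) :=
    CohFound.isGrothendieckAbelian_sheafOfModules (ModSite.ringSh O)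
  let j := telι (smulEnd s M) 0
  have hN : Inv (s + t) (Tel (smulEnd s M)) := inv_tel' _ hM
  have hC : PerpObj K (E.obj (cokernel j)) :=
    hg.perp_ext _ (Tors.inv_add tors_cokernel_telι ((Inv _).prop_cokernel j hM hN))
  have hI : Inv (s + t) (kernel (cokernel.π j)) :=
    (Inv _).prop_kernel _ hN ((Inv _).prop_cokernel j hM hN)
  let S₂ := ShortComplex.mk (kernel.ι (cokernel.π j)) (cokernel.π j) (kernel.condition _)
  have hS₂ : S₂.ShortExact :=
    { exact := ShortComplex.exact_of_f_is_kernel _ (kernelIsKernel _) }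
  let p : M ⟶ kernel (cokernel.π j) := Abelian.factorThruImage j
  haveI : Epi p := inferInstanceAs (Epi (Abelian.factorThruImage j))
  let S₁ := ShortComplex.mk (kernel.ι p) p (kernel.condition _)
  have hS₁ : S₁.ShortExact :=
    { exact := ShortComplex.exact_of_f_is_kernel _ (kernelIsKernel _) }
  have hK : PerpObj K (E.obj (kernel p)) := by
    refine hg.perp_ext _ (Tors.inv_add (tors_of_mono (kernel.ι p) ?_) ((Inv _).prop_kernel p hM hI))
    calc kernel.ι p ≫ j = kernel.ι p ≫ p ≫ kernel.ι (cokernel.π j) := by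
          exact congrArg (kernel.ι p ≫ ·) (Abelian.image.fac j).symm
      _ = 0 := by rw [kernel.condition_assoc, zero_comp]
  exact PerpObj.x₂ (hS₁.map_of_exact E) hK
    (PerpObj.x₁ (hS₂.map_of_exact E) (hf.perp_ext _ (inv_tel s M)) hC)

theorem GoodAll.glue {U : C} {f : O.obj.obj (op U)} (S : Sieve U) (hS : S ∈ J U)
    (h : ∀ ⦃V : C⦄ (g : V ⟶ U), S g → GoodAll K V ((O.obj.map g.op).hom f)) : GoodAll K U f :=
  fun V g => good_of_sieve _ (J.pullback_stable g hS) fun W q hq => by
    have := h (q ≫ g) hq W (𝟙 W)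
    rwa [map_id, ← map_map] at this

variable (K)

/-- The largest sheaf of ideals along which `K` is derived complete. -/
def vanishingIdeal : IdealSh O where
  ideal U :=
    { carrier := {f | GoodAll K U f}
      add_mem' := GoodAll.add
      zero_mem' := fun V g => by rw [map_zero]; exact good_zero V
      smul_mem' := fun a _ h => h.mul a }
  map_mem g _ h := GoodAll.map h g
  glue S hS h := GoodAll.glue S hS h

theorem mem_vanishingIdeal {U : C} {f : O.obj.obj (op U)} :
    f ∈ (vanishingIdeal K).ideal U ↔ GoodAll K U f := Iff.rfl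

theorem isDerComp_iff_le (I : IdealSh O) : IsDerComp O I K ↔ I ≤ vanishingIdeal K :=
  ⟨fun h U f hf V g => (good_iff O K V _).1 fun n => h V _ (I.map_mem g hf) n,
    fun h U f hf n => (good_iff O K U f).2 (by simpa [map_id] using h U hf U (𝟙 U)) n⟩

end Groth.Agent.DerVanish9
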