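import Groth.Agent.Lib.SiteLpull9.Tel
import Groth.Agent.Lib.CohFound.ModulesInst
import Groth.Prelude.Def_DerComp
import Mathlib.CategoryTheory.Abelian.GrothendieckCategory.Basic
import Mathlib.CategoryTheory.ObjectProperty.Kernels
import Mathlib.CategoryTheory.ObjectProperty.FiniteProducts

/-!
Modules on which a global section acts invertibly, and modules killed by the localisation at it.
-/

set_option autoImplicit false
set_option linter.unusedSectionVars false
set_option linter.style.haveILetI false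
set_option backward.isDefEq.respectTransparency false
set_option backward.isDefEq.respectTransparency.types false

universe u

open CategoryTheory CategoryTheory.Limits Opposite DerComp

attribute [local instance] HasDerivedCategory.standard

namespace Groth.Agent.DerVanish9

open SiteLpull9

variable {C : Type u} [SmallCategory C] {J : GrothendieckTopology C} {O : Sheaf J CommRingCat.{u}}

/-- Multiplication by `s` is bijective. -/
def Inv (s : GSec O) : ObjectProperty (ModSite.Mod O) := fun M => IsIso (smulEnd s M)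

instance (s : GSec O) : (Inv s).IsClosedUnderIsomorphisms where
  of_iso {X Y} e (hX : IsIso (smulEnd s X)) := by
    haveI := hX
    have : smulEnd s Y = e.inv ≫ smulEnd s X ≫ e.hom := by rw [smulEnd_comm, e.inv_hom_id_assoc]
    show IsIso (smulEnd s Y)
    rw [this]
    infer_instance

theorem Inv.of_isLimit {s : GSec O} {K : Type*} [Category K] {F : K ⥤ ModSite.Mod O} {c : Cone F}
    (hc : IsLimit c) (h : ∀ k, Inv s (F.obj k)) : Inv s c.pt := by
  haveI : ∀ k, IsIso (smulEnd s (F.obj k)) := h
  refine ⟨⟨hc.lift ⟨c.pt, ⟨fun k => c.π.app k ≫ inv (smulEnd s (F.obj k)), fun k l e => ?_⟩⟩, ?_, ?_⟩⟩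
  · show 𝟙 _ ≫ c.π.app l ≫ inv _ = (c.π.app k ≫ inv _) ≫ F.map e
    rw [Category.id_comp, ← c.w e, Category.assoc, Category.assoc]
    congr 1
    rw [IsIso.comp_inv_eq, Category.assoc, ← smulEnd_comm, IsIso.inv_hom_id_assoc]
  · refine hc.hom_ext fun k => ?_
    rw [Category.assoc, hc.fac, ← Category.assoc, smulEnd_comm]
    simp
  · refine hc.hom_ext fun k => ?_
    rw [Category.assoc, smulEnd_comm, hc.fac_assoc]
    simp

theorem Inv.of_isColimit {s : GSec O} {K : Type*} [Category K] {F : K ⥤ ModSite.Mod O} {c : Cocone F}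
    (hc : IsColimit c) (h : ∀ k, Inv s (F.obj k)) : Inv s c.pt := by
  haveI : ∀ k, IsIso (smulEnd s (F.obj k)) := h
  refine ⟨⟨hc.desc ⟨c.pt, ⟨fun k => inv (smulEnd s (F.obj k)) ≫ c.ι.app k, fun k l e => ?_⟩⟩, ?_, ?_⟩⟩
  · show F.map e ≫ inv _ ≫ c.ι.app l = (inv _ ≫ c.ι.app k) ≫ 𝟙 _
    rw [Category.comp_id, ← c.w e, ← Category.assoc, ← Category.assoc]
    congr 1
    rw [IsIso.comp_inv_eq, Category.assoc, ← smulEnd_comm, IsIso.inv_hom_id_assoc]
  · refine hc.hom_ext fun k => ?_
    have e : c.ι.app k ≫ smulEnd s c.pt = smulEnd s (F.obj k) ≫ c.ι.app k := (smulEnd_comm s (c.ι.app k)).symm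
    rw [reassoc_of% e, hc.fac]
    simp
  · refine hc.hom_ext fun k => ?_
    rw [hc.fac_assoc, ← smulEnd_comm]
    simp

instance (s : GSec O) : (Inv s).IsClosedUnderKernels where
  kernels_le := by
    rintro _ ⟨f, k, hk, h⟩
    exact Inv.of_isLimit hk (by rintro (_ | _); exacts [h.1, h.2])

instance (s : GSec O) : (Inv s).IsClosedUnderCokernels where
  cokernels_le := by
    rintro _ ⟨f, k, hk, h⟩
    exact Inv.of_isColimit hk (by rintro (_ | _); exacts [h.1, h.2])

instance (s : GSec O) (K : Type*) [Category K] : (Inv s).IsClosedUnderLimitsOfShape K where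
  limitsOfShape_le := by
    rintro X ⟨p⟩
    exact Inv.of_isLimit p.isLimit p.prop_diag_obj

instance (s : GSec O) : (Inv s).IsClosedUnderFiniteProducts := ⟨fun _ _ => inferInstance⟩

theorem Inv.of_isZero {s : GSec O} {M : ModSite.Mod O} (h : IsZero M) : Inv s M :=
  ⟨⟨0, h.eq_of_src _ _, h.eq_of_src _ _⟩⟩

instance (s : GSec O) : (Inv s).ContainsZero := by
  obtain ⟨Z, hZ⟩ := HasZeroObject.zero (C := ModSite.Mod O)
  exact ⟨⟨Z, hZ, Inv.of_isZero hZ⟩⟩

theorem Inv.of_mul {s t : GSec O} {M : ModSite.Mod O} (h : Inv (s * t) M) : Inv t M := by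
  haveI : IsIso (smulEnd s M ≫ smulEnd t M) := by rw [smulEnd_comp]; exact h
  haveI : IsIso (smulEnd t M ≫ smulEnd s M) := by rw [smulEnd_comp, mul_comm]; exact h
  haveI : Mono (smulEnd t M) := mono_of_mono _ (smulEnd s M)
  haveI : Epi (smulEnd t M) := epi_of_epi (smulEnd s M) _
  exact isIso_of_mono_of_epi (smulEnd t M)

/-- The telescope of multiplication by `s`. -/
theorem inv_tel (s : GSec O) (F : ModSite.Mod O) : Inv s (Tel (smulEnd s F)) := by
  refine ⟨⟨telDesc (smulEnd s F) (fun n => telι (smulEnd s F) (n + 1)) fun n => telι_rel _ _, ?_, ?_⟩⟩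
  · refine tel_hom_ext _ fun n => ?_
    rw [← smulEnd_comm_assoc', telι_telDesc, ← telι_rel, Category.comp_id]
  · refine tel_hom_ext _ fun n => ?_
    rw [← Category.assoc, telι_telDesc, ← smulEnd_comm, ← telι_rel, Category.comp_id]
where
  smulEnd_comm_assoc' {n : ℕ} {Z : ModSite.Mod O} (h : Tel (smulEnd s F) ⟶ Z) :
      smulEnd s F ≫ telι (smulEnd s F) n ≫ h =
        telι (smulEnd s F) n ≫ smulEnd s (Tel (smulEnd s F)) ≫ h := by
    rw [← Category.assoc, smulEnd_comm, Category.assoc]

theorem inv_tel' {t : GSec O} {F : ModSite.Mod O} (μ : F ⟶ F) (h : Inv t F) : Inv t (Tel μ) :=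
  (Inv t).prop_cokernel (telMap μ) (Inv.of_isColimit (coproductIsCoproduct _) fun _ => h)
    (Inv.of_isColimit (coproductIsCoproduct _) fun _ => h)

theorem Inv.sigma {s : GSec O} {ι : Type u} {M : ι → ModSite.Mod O} (h : ∀ i, Inv s (M i)) :
    Inv s (∐ M) :=
  Inv.of_isColimit (coproductIsCoproduct M) fun i => h i.as

section Ext

variable {s : GSec O} {F M : ModSite.Mod O}

/-- The iterated extension of a map to an invertible module. -/
noncomputable def extSeq (hM : Inv s M) (h : F ⟶ M) : ℕ → (F ⟶ M)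
  | 0 => h
  | n + 1 => haveI : IsIso (smulEnd s M) := hM; extSeq hM h n ≫ inv (smulEnd s M)

/-- A map to an invertible module extends to the telescope. -/
noncomputable def ext (hM : Inv s M) (h : F ⟶ M) : Tel (smulEnd s F) ⟶ M :=
  telDesc _ (extSeq hM h) fun n => by
    haveI : IsIso (smulEnd s M) := hM
    show _ = smulEnd s F ≫ extSeq hM h n ≫ inv _
    rw [← Category.assoc, smulEnd_comm, Category.assoc, IsIso.hom_inv_id, Category.comp_id]

theorem telι_ext (hM : Inv s M) (h : F ⟶ M) : telι (smulEnd s F) 0 ≫ ext hM h = h :=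
  telι_telDesc _ _ _ 0

theorem eq_zero_of_telι_zero (hM : Inv s M) {a : Tel (smulEnd s F) ⟶ M}
    (h : telι (smulEnd s F) 0 ≫ a = 0) : a = 0 := by
  haveI : IsIso (smulEnd s M) := hM
  refine tel_hom_ext _ fun n => ?_
  rw [comp_zero]
  induction n with
  | zero => exact h
  | succ n ih =>
    rw [← cancel_mono (smulEnd s M), zero_comp, ← smulEnd_comm, ← Category.assoc, ← telι_rel]
    exact ih

/-- `X` dies in the localisation at `s`. -/
def Tors (s : GSec O) (X : ModSite.Mod O) : Prop := telι (smulEnd s X) 0 = 0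

theorem Tors.eq_zero {X : ModSite.Mod O} (hX : Tors s X) (hM : Inv s M) (h : X ⟶ M) : h = 0 := by
  rw [← telι_ext hM h, show telι (smulEnd s X) 0 = 0 from hX, zero_comp]

theorem tors_cokernel_telι : Tors s (cokernel (telι (smulEnd s F) 0)) := by
  rw [Tors, ← cancel_epi (cokernel.π _), comp_zero]
  exact eq_zero_of_telι_zero (inv_tel s _) (by rw [cokernel.condition_assoc, zero_comp])

/-- Telescopes preserve monomorphisms, in the form needed. -/
theorem tors_of_mono {X : ModSite.Mod O} (i : X ⟶ F) [Mono i]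
    (h : i ≫ telι (smulEnd s F) 0 = 0) : Tors s X := by
  haveI : IsGrothendieckAbelian.{u} (ModSite.Mod O) :=
    CohFound.isGrothendieckAbelian_sheafOfModules (ModSite.ringSh O)
  haveI : AB5OfSize.{0, 0} (ModSite.Mod O) := AB5OfSize_shrink.{0, 0, u, u} (ModSite.Mod O)
  haveI : HasExactColimitsOfShape ℕ (ModSite.Mod O) := AB5OfSize.ofShape _
  let G : ModSite.Mod O → (ℕ ⥤ ModSite.Mod O) := fun Y =>
    Functor.ofSequence (X := fun _ => Y) fun _ => smulEnd s Y
  have hG : ∀ Y n, (G Y).map (homOfLE (Nat.le_succ n)) = smulEnd s Y := fun Y n =>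
    Functor.ofSequence_map_homOfLE_succ _ n
  let τ : G X ⟶ G F := NatTrans.ofSequence (fun _ => i) fun n => by
    rw [hG, hG]
    exact smulEnd_comm s i
  haveI : ∀ n, Mono (τ.app n) := fun _ => ‹Mono i›
  haveI : Mono τ := NatTrans.mono_of_mono_app τ
  haveI : Mono (colim.map τ) := colim.map_mono τ
  let down : Tel (smulEnd s F) ⟶ colimit (G F) := telDesc _ (fun n => colimit.ι (G F) n) fun n =>
    (colimit.w (G F) (homOfLE (Nat.le_succ n))).symm.trans (congrArg (· ≫ colimit.ι (G F) (n + 1)) (hG F n))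
  let up : colimit (G X) ⟶ Tel (smulEnd s X) :=
    colimit.desc _ ⟨Tel (smulEnd s X), NatTrans.ofSequence (fun n => telι (smulEnd s X) n) fun n => by
      rw [hG]
      exact (telι_rel _ n).symm.trans (Category.comp_id _).symm⟩
  have h0 : colimit.ι (G X) 0 = 0 := by
    have h' : i ≫ colimit.ι (G F) 0 = 0 := by
      have h' := congrArg (· ≫ down) h
      simp only [zero_comp, Category.assoc, down] at h'
      rw [← h']
      exact congrArg (i ≫ ·) ((Category.assoc _ _ _).symm.trans (telι_telDesc _ _ _ 0)).symm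
    rw [← cancel_mono (colim.map τ), zero_comp]
    exact (ι_colimMap τ 0).trans h'
  have := (colimit.ι_desc _ 0 : colimit.ι (G X) 0 ≫ up = telι (smulEnd s X) 0)
  rw [h0, zero_comp] at this
  exact this.symm

theorem Tors.mono {X Z : ModSite.Mod O} (hX : Tors s X) (i : Z ⟶ X) [Mono i] : Tors s Z :=
  tors_of_mono i (by rw [show telι (smulEnd s X) 0 = 0 from hX, comp_zero])

theorem Tors.isZero {X : ModSite.Mod O} (hX : Tors s X) (h : Inv s X) : IsZero X :=
  (IsZero.iff_id_eq_zero X).2 (hX.eq_zero h _)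

/-- On a module killed by the localisation at `s`, `t` is invertible with `s + t`. -/
theorem Tors.inv_add {t : GSec O} {X : ModSite.Mod O} (hX : Tors s X) (h : Inv (s + t) X) : Inv t X := by
  haveI : Mono (smulEnd t X) := by
    refine Preadditive.mono_of_kernel_zero ?_
    have h0 : smulEnd t (kernel (smulEnd t X)) = 0 := by
      rw [← cancel_mono (kernel.ι _), smulEnd_comm, kernel.condition, zero_comp]
    have hs : Inv s (kernel (smulEnd t X)) := by
      have := (Inv (s + t)).prop_kernel (smulEnd t X) h h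
      simpa [Inv, smulEnd_add, h0] using this
    exact ((hX.mono (kernel.ι _)).isZero hs).eq_of_src _ _
  haveI : Epi (smulEnd t X) := by
    refine Preadditive.epi_of_cokernel_zero ?_
    have h0 : smulEnd t (cokernel (smulEnd t X)) = 0 := by
      rw [← cancel_epi (cokernel.π (smulEnd t X)), ← smulEnd_comm, cokernel.condition, comp_zero]
    have hs : Inv s (cokernel (smulEnd t X)) := by
      have := (Inv (s + t)).prop_cokernel (smulEnd t X) h h
      simpa [Inv, smulEnd_add, h0] using this
    exact hX.eq_zero hs _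
  exact isIso_of_mono_of_epi (smulEnd t X)

end Ext

end Groth.Agent.DerVanish9
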