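import Groth.Agent.Lib.DerVanish9.Restrict
import Groth.Agent.S13482

/-!
Completion commutes with restriction along an object whose slice projection has a right adjoint.
-/

set_option autoImplicit false
set_option linter.unusedSectionVars false
set_option linter.style.haveILetI false
set_option backward.isDefEq.respectTransparency false
set_option backward.isDefEq.respectTransparency.types false

universe u

open CategoryTheory CategoryTheory.Limits Opposite DerComp

attribute [local instance] HasDerivedCategory.standard

namespace Groth.Agent.DerVanish9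

open SiteLpull9

variable {C : Type u} [SmallCategory C] {J : GrothendieckTopology C} (O : Sheaf J CommRingCat.{u}) {U : C}
  {R : C ⥤ Over U} (adjR : Over.forget U ⊣ R)

/-- The morphism of ringed sites of the slice. -/
noncomputable def sliceMor : ModSite.RMor (O.over U) O :=
  haveI : R.IsContinuous J (J.over U) := adjR.isContinuous_of_isCocontinuous (J.over U) J
  haveI : R.IsRightAdjoint := adjR.isRightAdjoint
  ModSite.RMor.ofFlat R ⟨Functor.whiskerRight (NatTrans.op adjR.counit) O.obj⟩

/-- Restriction is left adjoint to direct image. -/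
noncomputable def restrPushAdj : ModSite.restr O U ⊣ (sliceMor O adjR).push :=
  haveI : R.IsContinuous J (J.over U) := adjR.isContinuous_of_isCocontinuous (J.over U) J
  SheafOfModules.pushforwardPushforwardAdj adjR (𝟙 ((ModSite.ringSh O).over U)) (sliceMor O adjR).sharpR
    (by
      ext V x
      rfl)
    (by
      ext A x
      show (O.obj.map ((Over.forget U).map (adjR.unit.app A.unop)).op).hom
        ((O.obj.map (adjR.counit.app A.unop.left).op).hom x) = x
      exact (map_map _ _ _).trans ((congrArg (fun q => (O.obj.map (Quiver.Hom.op q)).hom x)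
        (adjR.left_triangle_components A.unop)).trans (map_id x)))

instance preservesFiniteLimits_restr' : PreservesFiniteLimits (ModSite.restr O U) :=
  haveI : PreservesLimitsOfSize.{0, 0} (ModSite.restr O U) :=
    (ModSite.extZeroAdj O U).rightAdjoint_preservesLimits
  PreservesLimitsOfSize.preservesFiniteLimits _

include adjR in
theorem preservesFiniteColimits_restr : PreservesFiniteColimits (ModSite.restr O U) :=
  haveI : PreservesColimitsOfSize.{0, 0} (ModSite.restr O U) :=
    (restrPushAdj O adjR).leftAdjoint_preservesColimits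
  PreservesColimitsOfSize.preservesFiniteColimits _

theorem hasRpushD_slice : SiteCmp.HasRpushD (sliceMor O adjR) := by
  haveI : IsGrothendieckAbelian.{u} (ModSite.Mod (O.over U)) :=
    CohFound.isGrothendieckAbelian_sheafOfModules (ModSite.ringSh (O.over U))
  exact KInjLib.hasRightDerivedFunctor KInjLib.enoughKInj_of_grothendieck _

/-- `restr` on derived categories is left adjoint to `Rj_*`. -/
theorem exists_restrAdj [(ModSite.restr O U).Additive] [PreservesFiniteLimits (ModSite.restr O U)]
    [PreservesFiniteColimits (ModSite.restr O U)] [SiteCmp.HasRpushD (sliceMor O adjR)] :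
    Nonempty ((ModSite.restr O U).mapDerivedCategory ⊣ SiteCmp.RpushD (sliceMor O adjR)) := by
  let f := sliceMor O adjR
  let W := HomotopyCategory.quasiIso (ModSite.Mod O) (ComplexShape.up ℤ)
  let i : f.pull ≅ ModSite.restr O U := f.adj.leftAdjointUniq (restrPushAdj O adjR)
  haveI : PreservesFiniteLimits f.pull := preservesFiniteLimits_of_natIso i.symm
  haveI : PreservesFiniteColimits f.pull := preservesFiniteColimits_of_natIso i.symm
  obtain ⟨G', α, adj, hα⟩ := exists_adjunction f
  let F := f.pull
  haveI h₁ : G'.IsLeftDerivedFunctor α W :=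
    isLeftDerivedFunctor_of_isIso _ (KFlat.resFunctor (KFlat.Site.cover O))
      (KFlat.resNatTrans (KFlat.Site.cover O))
      (fun L => KFlat.quasiIso_resπ (KFlat.Site.cover O) L) Adapted adapted_resObj
      (fun φ _ hL hL' => isIso_pull_map f φ hL hL') G' α hα
  haveI h₂ : F.mapDerivedCategory.IsLeftDerivedFunctor F.mapDerivedCategoryFactorsh.hom W :=
    isLeftDerivedFunctor_of_isIso _ (KFlat.resFunctor (KFlat.Site.cover O))
      (KFlat.resNatTrans (KFlat.Site.cover O))
      (fun L => KFlat.quasiIso_resπ (KFlat.Site.cover O) L) Adapted adapted_resObj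
      (fun φ _ hL hL' => isIso_pull_map f φ hL hL') _ _ fun _ _ => inferInstance
  exact ⟨adj.ofNatIsoLeft (Functor.leftDerivedUnique F.mapDerivedCategory G' α F.mapDerivedCategoryFactorsh.hom W ≪≫
      mapDerivedIso i)⟩

include adjR in
theorem isIso_derCompletion_restr (I : IdealSh O) [(ModSite.restr O U).Additive]
    [PreservesFiniteLimits (ModSite.restr O U)] [PreservesFiniteColimits (ModSite.restr O U)]
    [HasDerCompletion O I] [HasDerCompletion (O.over U) (I.over U)] (F : DerivedCategory (ModSite.Mod O))
    (h : IsDerComp (O.over U) (I.over U) ((ModSite.restr O U).mapDerivedCategory.obj ((derCompletion O I).obj F).obj)) :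
    IsIso (((derCompletionAdj (O.over U) (I.over U)).homEquiv ((ModSite.restr O U).mapDerivedCategory.obj F)
      ⟨(ModSite.restr O U).mapDerivedCategory.obj ((derCompletion O I).obj F).obj, h⟩).symm
        ((ModSite.restr O U).mapDerivedCategory.map (toDerCompletion I F))) := by
  haveI := hasRpushD_slice O adjR
  obtain ⟨adj⟩ := exists_restrAdj O adjR
  let adjI := derCompletionAdj O I
  let adjU := derCompletionAdj (O.over U) (I.over U)
  let rD := (ModSite.restr O U).mapDerivedCategory
  let Φ := SiteCmp.RpushD (sliceMor O adjR)
  have hmaps : RMapsIdealInto (sliceMor O adjR) I (I.over U) := fun V g hg =>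
    I.map_mem (adjR.counit.app V) hg
  have hΦ : ∀ Z : DComp (O.over U) (I.over U), IsDerComp O I (Φ.obj Z.obj) := fun Z =>
    Groth.Agent.S13482.result (sliceMor O adjR) I (I.over U) hmaps Z.obj Z.property
  let η := adjI.unit.app F
  rw [isIso_iff_coyoneda_map_bijective]
  intro Z
  have key : Function.Bijective fun g : (rD.obj ((derCompletion O I).obj F).obj ⟶ Z.obj) =>
      rD.map η ≫ g := by
    let e := ((adj.homEquiv _ Z.obj).trans
      (((IsDerComp O I).fullyFaithfulι.homEquiv (Y := ⟨Φ.obj Z.obj, hΦ Z⟩)).symm.trans
        (adjI.homEquiv F ⟨Φ.obj Z.obj, hΦ Z⟩))).trans (adj.homEquiv (F) Z.obj).symm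
    convert e.bijective using 1
    funext g
    symm
    dsimp only [e, Equiv.trans_apply]
    refine (Equiv.symm_apply_eq (adj.homEquiv F Z.obj)).2 ?_
    refine Eq.trans ?_ (adj.homEquiv_naturality_left η g).symm
    exact adjI.homEquiv_unit _ _ _
  have e : ∀ g : (⟨rD.obj ((derCompletion O I).obj F).obj, h⟩ : DComp (O.over U) (I.over U)) ⟶ Z,
      (adjU.homEquiv (rD.obj F) ⟨_, h⟩).symm (rD.map η) ≫ g =
        (adjU.homEquiv (rD.obj F) Z).symm (rD.map η ≫ g.hom) := fun g =>
    (adjU.homEquiv_naturality_right_symm _ g).symm
  have hb := ((adjU.homEquiv (rD.obj F) Z).symm.bijective.comp key).comp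
    ((IsDerComp (O.over U) (I.over U)).fullyFaithfulι.homEquiv (X := ⟨_, h⟩) (Y := Z)).bijective
  convert hb using 1
  exact funext e

end Groth.Agent.DerVanish9
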