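import Groth.Agent.Lib.RHom.Generate
import Groth.Agent.Lib.RHom.HomologyExact
import Groth.Agent.Lib.KInj.Derived
import Groth.Agent.Lib.KFlat.Brutal

/-!
The left orthogonal of an object of the derived category contains bounded above complexes with
orthogonal terms.
-/

set_option autoImplicit false
set_option linter.unusedSectionVars false
set_option linter.style.haveILetI false
set_option backward.isDefEq.respectTransparency false
set_option backward.isDefEq.respectTransparency.types false

universe v u

open CategoryTheory CategoryTheory.Limits CategoryTheory.Pretriangulated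

attribute [local instance] HasDerivedCategory.standard

namespace Groth.Agent.DerVanish9

variable {A : Type u} [Category.{v} A] [Abelian A] [IsGrothendieckAbelian.{v} A]
  {K : DerivedCategory A}

variable (K) in
/-- All maps to shifts of `K` vanish. -/
def Perp (Z : DerivedCategory A) : Prop := ∀ n : ℤ, Subsingleton (Z ⟶ K⟦n⟧)

theorem Perp.iso {Z Z' : DerivedCategory A} (h : Perp K Z) (e : Z ≅ Z') : Perp K Z' :=
  fun n => (Iso.homCongr e.symm (Iso.refl _)).subsingleton_congr.2 (h n)

theorem Perp.of_isZero {Z : DerivedCategory A} (h : IsZero Z) : Perp K Z :=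
  fun _ => ⟨fun _ _ => h.eq_of_src _ _⟩

theorem Perp.shift {Z : DerivedCategory A} (h : Perp K Z) (m : ℤ) : Perp K (Z⟦m⟧) := fun n => by
  have e := ((shiftEquiv' (DerivedCategory A) m (-m) (add_neg_cancel m)).toAdjunction.homEquiv Z
    (K⟦n⟧)).trans (Iso.homCongr (Iso.refl Z)
      ((shiftFunctorAdd' (DerivedCategory A) n (-m) (n - m) (by omega)).app K).symm)
  exact e.subsingleton_congr.2 (h (n - m))

theorem Perp.obj₃ {T : Triangle (DerivedCategory A)} (hT : T ∈ distTriang _) (h₁ : Perp K T.obj₁)
    (h₂ : Perp K T.obj₂) : Perp K T.obj₃ := fun n => by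
  suffices ∀ f : T.obj₃ ⟶ K⟦n⟧, f = 0 from ⟨fun f g => (this f).trans (this g).symm⟩
  intro f
  haveI := h₂ n
  obtain ⟨g, rfl⟩ := Triangle.yoneda_exact₃ _ hT f (Subsingleton.elim _ _)
  haveI := (h₁.shift 1) n
  rw [Subsingleton.elim g 0]
  exact comp_zero

theorem Perp.obj₂ {T : Triangle (DerivedCategory A)} (hT : T ∈ distTriang _) (h₁ : Perp K T.obj₁)
    (h₃ : Perp K T.obj₃) : Perp K T.obj₂ :=
  Perp.obj₃ (inv_rot_of_distTriang _ hT) (h₃.shift (-1)) h₁

theorem Perp.obj₁ {T : Triangle (DerivedCategory A)} (hT : T ∈ distTriang _) (h₂ : Perp K T.obj₂)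
    (h₃ : Perp K T.obj₃) : Perp K T.obj₁ :=
  Perp.obj₂ (inv_rot_of_distTriang _ hT) (h₃.shift (-1)) h₂

theorem Perp.sigma {ι : Type v} (Z : ι → CochainComplex A ℤ)
    (h : ∀ i, Perp K (DerivedCategory.Q.obj (Z i))) : Perp K (DerivedCategory.Q.obj (∐ Z)) :=
  fun n => ⟨fun _ _ => Cofan.IsColimit.hom_ext (KInjLib.isColimitSigma Z) _ _ fun i =>
    (h i n).elim _ _⟩

theorem Perp.colimit_seq (F : ℕ ⥤ CochainComplex A ℤ)
    (h : ∀ n, Perp K (DerivedCategory.Q.obj (F.obj n))) :
    Perp K (DerivedCategory.Q.obj (colimit F)) :=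
  Perp.obj₃ (DerivedCategory.triangleOfSES_distinguished (RHom.shortExact_telescope F))
    (Perp.sigma _ fun t => h t.down) (Perp.sigma _ fun t => h t.down)

/-- A bounded above complex with orthogonal terms is orthogonal. -/
theorem Perp.boundedAbove (L : CochainComplex A ℤ) (b : ℤ) [L.IsStrictlyLE b]
    (hL : ∀ i a, Perp K ((DerivedCategory.singleFunctor A a).obj (L.X i))) :
    Perp K (DerivedCategory.Q.obj L) := by
  refine Perp.iso (Perp.colimit_seq _ fun n => ?_)
    (DerivedCategory.Q.mapIso ((colimit.isColimit _).coconePointUniqueUpToIso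
      (KFlat.isColimitBrutCocone L (b + 1))))
  haveI := KFlat.brutGE_isStrictlyLE L (b + 1 - (n : ℤ)) b
  refine RHom.bounded_induction (fun Z => Perp K (DerivedCategory.Q.obj Z))
    (fun Z hZ => Perp.of_isZero (DerivedCategory.Q.map_isZero hZ))
    (fun S hSp h₁ h₃ => Perp.obj₂ (DerivedCategory.triangleOfSES_distinguished
      (HomologicalComplex.shortExact_of_degreewise_shortExact S
        fun i => (hSp i).some.shortExact)) h₁ h₃)
    (fun M => ∀ a, Perp K ((DerivedCategory.singleFunctor A a).obj M))
    (fun M hM a => Perp.of_isZero ((DerivedCategory.singleFunctor A a).map_isZero hM))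
    (fun e h a => (h a).iso ((DerivedCategory.singleFunctor A a).mapIso e))
    (fun a M h => h a) b n (KFlat.brutGE L (b + 1 - (n : ℤ))) fun i a => ?_
  by_cases hi : b + 1 - (n : ℤ) ≤ i
  · exact (hL i a).iso ((DerivedCategory.singleFunctor A a).mapIso (KFlat.brutIso L hi).symm)
  · exact Perp.of_isZero ((DerivedCategory.singleFunctor A a).map_isZero
      (KFlat.brutGE_isZero L (by omega)))

variable (K) in
/-- Objects of `A` orthogonal in all degrees. -/
def PerpObj (M : A) : Prop := ∀ a : ℤ, Perp K ((DerivedCategory.singleFunctor A a).obj M)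

theorem PerpObj.iso {M M' : A} (h : PerpObj K M) (e : M ≅ M') : PerpObj K M' :=
  fun a => (h a).iso ((DerivedCategory.singleFunctor A a).mapIso e)

theorem perpObj_of_degree {M : A} (a : ℤ)
    (h : Perp K ((DerivedCategory.singleFunctor A a).obj M)) : PerpObj K M := fun b =>
  (h.shift (a - b)).iso (((DerivedCategory.singleFunctors A).shiftIso (a - b) b a (by omega)).app M)

theorem perpObj_of_isZero {M : A} (h : IsZero M) : PerpObj K M :=
  fun a => Perp.of_isZero ((DerivedCategory.singleFunctor A a).map_isZero h)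

theorem PerpObj.x₁ {S : ShortComplex A} (hS : S.ShortExact) (h₂ : PerpObj K S.X₂)
    (h₃ : PerpObj K S.X₃) : PerpObj K S.X₁ := fun a =>
  Perp.obj₁ (DerivedCategory.triangleOfSES_distinguished
    (hS.map_of_exact (HomologicalComplex.single A (ComplexShape.up ℤ) a))) (h₂ a) (h₃ a)

theorem PerpObj.x₂ {S : ShortComplex A} (hS : S.ShortExact) (h₁ : PerpObj K S.X₁)
    (h₃ : PerpObj K S.X₃) : PerpObj K S.X₂ := fun a =>
  Perp.obj₂ (DerivedCategory.triangleOfSES_distinguished
    (hS.map_of_exact (HomologicalComplex.single A (ComplexShape.up ℤ) a))) (h₁ a) (h₃ a)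

theorem PerpObj.sigma {ι : Type v} (M : ι → A) (h : ∀ i, PerpObj K (M i)) : PerpObj K (∐ M) :=
  fun a => by
    haveI : PreservesColimitsOfShape (Discrete ι) (HomologicalComplex.single A (ComplexShape.up ℤ) a) :=
      inferInstance
    exact (Perp.sigma (fun i => (HomologicalComplex.single A (ComplexShape.up ℤ) a).obj (M i))
      fun i => h i a).iso (DerivedCategory.Q.mapIso
        (PreservesCoproduct.iso (HomologicalComplex.single A (ComplexShape.up ℤ) a) M).symm)

end Groth.Agent.DerVanish9
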