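import Groth.Agent.Lib.DerVanish9.Perp
import Groth.Agent.Lib.ClassRes.Dual
import Mathlib.CategoryTheory.Abelian.Subcategory
import Mathlib.CategoryTheory.Abelian.Exact

/-!
Orthogonality propagates along left resolutions inside an abelian subcategory.
-/

set_option autoImplicit false
set_option linter.unusedSectionVars false
set_option linter.style.haveILetI false
set_option backward.isDefEq.respectTransparency false
set_option backward.isDefEq.respectTransparency.types false

universe v u v' u'

open CategoryTheory CategoryTheory.Limits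

attribute [local instance] HasDerivedCategory.standard

namespace Groth.Agent.DerVanish9

variable {A : Type u} [Category.{v} A] [Abelian A]
  {B : Type u'} [Category.{v'} B] [Abelian B] [IsGrothendieckAbelian.{v'} B]
  {K : DerivedCategory B} (E : A ⥤ B) [E.Additive] [PreservesFiniteLimits E]
  [PreservesFiniteColimits E]
  (Q : ObjectProperty A) [Q.ContainsZero] [Q.IsClosedUnderKernels] [Q.IsClosedUnderCokernels]
  [Q.IsClosedUnderFiniteProducts]

/-- If every object of the subcategory is a quotient of one with orthogonal image, all have. -/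
theorem perpObj_of_cover
    (hcov : ∀ X, Q X → ∃ (Y : A) (π : Y ⟶ X), Q Y ∧ PerpObj K (E.obj Y) ∧ Epi π) (X : A) (hX : Q X) :
    PerpObj K (E.obj X) := by
  intro a
  let P : Q.FullSubcategory → Prop := fun Y => PerpObj K (E.obj Y.obj)
  obtain ⟨R, α, hR, hP, -, hα⟩ := ClassRes.exists_leftResolution_epi (P := P)
    (by
      obtain ⟨Z, hZ⟩ := HasZeroObject.zero (C := Q.FullSubcategory)
      exact ⟨Z, hZ, perpObj_of_isZero (E.map_isZero (Q.ι.map_isZero hZ))⟩)
    (fun Z => by
      obtain ⟨Y, π, hY, hp, hπ⟩ := hcov Z.obj Z.property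
      refine ⟨⟨Y, hY⟩, ObjectProperty.homMk π, hp, ?_⟩
      haveI : Epi (Q.ι.map (ObjectProperty.homMk π : (⟨Y, hY⟩ : Q.FullSubcategory) ⟶ Z)) := hπ
      exact Q.ι.epi_of_epi_map inferInstance)
    ((HomologicalComplex.single Q.FullSubcategory (ComplexShape.up ℤ) a).obj ⟨X, hX⟩) a
  haveI : Q.ι.PreservesMonomorphisms := Q.preservesMonomorphisms_ι_of_isNormalEpiCategory
  haveI : PreservesFiniteLimits Q.ι :=
    haveI := Q.preservesKernels_ι
    Functor.preservesFiniteLimits_of_preservesKernels Q.ι
  haveI : PreservesFiniteColimits Q.ι :=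
    haveI := Q.preservesCokernels_ι
    Functor.preservesFiniteColimits_of_preservesCokernels Q.ι
  let G := Q.ι ⋙ E
  haveI : QuasiIso α := hα
  haveI : QuasiIso ((G.mapHomologicalComplex (ComplexShape.up ℤ)).map α) := inferInstance
  haveI : CochainComplex.IsStrictlyLE ((G.mapHomologicalComplex (ComplexShape.up ℤ)).obj R) a := by
    rw [CochainComplex.isStrictlyLE_iff]
    intro i hi
    exact G.map_isZero (R.isZero_of_isStrictlyLE a i hi)
  exact (Perp.boundedAbove ((G.mapHomologicalComplex (ComplexShape.up ℤ)).obj R) a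
    fun i b => hP i b).iso
    (asIso (DerivedCategory.Q.map ((G.mapHomologicalComplex (ComplexShape.up ℤ)).map α)) ≪≫
      DerivedCategory.Q.mapIso
        ((HomologicalComplex.singleMapHomologicalComplex G (ComplexShape.up ℤ) a).app ⟨X, hX⟩))

end Groth.Agent.DerVanish9
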