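import Groth.Agent.Lib.DerVanish9.Resolve
import Groth.Agent.Lib.DerVanish9.Inv
import Groth.Agent.Lib.SiteLpull9.Away
import Groth.Agent.Lib.ModFlat16.ExtZero

/-!
Vanishing against invertible modules on a slice follows from vanishing against telescopes.
-/

set_option autoImplicit false
set_option linter.unusedSectionVars false
set_option linter.style.haveILetI false
set_option backward.isDefEq.respectTransparency false
set_option backward.isDefEq.respectTransparency.types false

universe u

open CategoryTheory CategoryTheory.Limits Opposite DerComp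

attribute [local instance] HasDerivedCategory.standard

namespace Groth.Agent.DerVanish9

open SiteLpull9

variable {C : Type u} [SmallCategory C] {J : GrothendieckTopology C} (O : Sheaf J CommRingCat.{u})
  (K : DerivedCategory (ModSite.Mod O))

/-- The telescope at `f` is orthogonal to `K`. -/
def Good (V : C) (f : O.obj.obj (op V)) : Prop := PerpObj K (Tel (mu O V f))

theorem good_iff (V : C) (f : O.obj.obj (op V)) :
    (∀ n : ℤ, Subsingleton (SiteCmp.inD O ((ModSite.extZero O V).obj (awayOver O V f)) ⟶ K⟦n⟧)) ↔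
      Good O K V f :=
  ⟨fun h => (perpObj_of_degree 0 h).iso (extAwayIso O V f), fun h => (h.iso (extAwayIso O V f).symm) 0⟩

/-- Extension by zero of a free module of the slice. -/
theorem ext_free {U : C} (s : GSec (O.over U)) (A : Over U) :
    ∃ e : (ModSite.extZero O U).obj (ModSite.freeOn (O.over U) A) ≅ ModSite.freeOn O A.left,
      (ModSite.extZero O U).map (smulEnd s (ModSite.freeOn (O.over U) A)) ≫ e.hom =
        e.hom ≫ mu O A.left (s.1 A) := by
  let adj := ModSite.extZeroAdj O U
  let X := ModSite.freeOn (O.over U) A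
  let e : ∀ M, ((ModSite.extZero O U).obj X ⟶ M) ≃ M.val.obj (op A.left) := fun M =>
    (adj.homEquiv _ _).trans (ModFlat16.freeOnHom (O.over U) A ((ModSite.restr O U).obj M))
  have he : ∀ {M N} (h : (ModSite.extZero O U).obj X ⟶ M) (g : M ⟶ N),
      e N (h ≫ g) = g.val.app (op A.left) (e M h) := fun {M N} h g => by
    show ModFlat16.freeOnHom (O.over U) A ((ModSite.restr O U).obj N) (adj.homEquiv _ _ (h ≫ g)) = _
    rw [Adjunction.homEquiv_naturality_right, ModFlat16.freeOnHom_comp]
    rfl
  let F := ModSite.freeOn O A.left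
  let φ : (ModSite.extZero O U).obj X ⟶ F := (e F).symm (ModFlat16.freeOnHom O A.left F (𝟙 F))
  let ψ : F ⟶ (ModSite.extZero O U).obj X := (ModFlat16.freeOnHom O A.left _).symm (e _ (𝟙 _))
  have hφ : e F φ = ModFlat16.freeOnHom O A.left F (𝟙 F) := Equiv.apply_symm_apply _ _
  have hψ : ∀ {M} (h : (ModSite.extZero O U).obj X ⟶ M),
      ModFlat16.freeOnHom O A.left M (ψ ≫ h) = e M h := fun {M} h => by
    rw [ModFlat16.freeOnHom_comp, Equiv.apply_symm_apply, ← he, Category.id_comp]
  have hφ' : ∀ {M} (h : F ⟶ M), e M (φ ≫ h) = ModFlat16.freeOnHom O A.left M h :=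
    fun {M} h => by rw [he, hφ, ← ModFlat16.freeOnHom_comp, Category.id_comp]
  refine ⟨⟨φ, ψ, (e _).injective (by rw [hφ', ← Category.comp_id ψ, hψ]),
    (ModFlat16.freeOnHom O A.left F).injective (by rw [hψ, hφ])⟩, ?_⟩
  apply (e _).injective
  have h₁ : e F ((ModSite.extZero O U).map (smulEnd s X) ≫ φ) =
      (show (ModSite.ringSh O).obj.obj (op A.left) from s.1 A) • e F φ := by
    show ModFlat16.freeOnHom (O.over U) A ((ModSite.restr O U).obj F)
      (adj.homEquiv _ _ ((ModSite.extZero O U).map (smulEnd s X) ≫ φ)) = _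
    rw [Adjunction.homEquiv_naturality_left, smulEnd_comm, ModFlat16.freeOnHom_comp]
    rfl
  refine h₁.trans ?_
  rw [hφ', ← Category.comp_id (mu O _ _), freeOnHom_mu, hφ]

variable {O}

/-- Every module on which `s` is invertible is orthogonal after extension by zero, when the
telescopes over a generating family of the slice are. -/
theorem perpObj_ext {U : C} (s : GSec (O.over U)) (G : Set (Over U))
    (hG : ∀ X : Over U, ∃ (ι : Type u) (Y : ι → Over U) (f : ∀ i, Y i ⟶ X),
      Sieve.ofArrows Y f ∈ J.over U X ∧ ∀ i, Y i ∈ G)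
    (h : ∀ A ∈ G, Good O K A.left (s.1 A)) (M : ModSite.Mod (O.over U)) (hM : Inv s M) :
    PerpObj K ((ModSite.extZero O U).obj M) := by
  haveI : IsGrothendieckAbelian.{u} (ModSite.Mod O) :=
    CohFound.isGrothendieckAbelian_sheafOfModules (ModSite.ringSh O)
  haveI := ModFlat16.preservesFiniteLimits_extZero O U
  haveI : PreservesColimitsOfSize.{u, u} (ModSite.extZero O U) :=
    (ModSite.extZeroAdj O U).leftAdjoint_preservesColimits
  haveI : PreservesFiniteColimits (ModSite.extZero O U) :=
    PreservesColimitsOfSize.preservesFiniteColimits _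
  refine perpObj_of_cover (ModSite.extZero O U) (Inv s) (fun N hN => ?_) M hM
  let ι := Σ A : G, N.val.obj (op A.1)
  let T : ι → ModSite.Mod (O.over U) := fun i => Tel (smulEnd s (ModSite.freeOn (O.over U) i.1.1))
  refine ⟨∐ T, Sigma.desc fun i => ext hN ((ModFlat16.freeOnHom (O.over U) i.1.1 N).symm i.2),
    Inv.sigma fun i => inv_tel s _, ?_, ⟨fun {P} a b hab => ?_⟩⟩
  · refine (PerpObj.sigma (fun i => (ModSite.extZero O U).obj (T i)) fun i => ?_).iso
      (PreservesCoproduct.iso (ModSite.extZero O U) T).symm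
    obtain ⟨e, he⟩ := ext_free O s i.1.1
    exact (h i.1.1 i.1.2).iso (telIso (ModSite.extZeroAdj O U) _ _ e he).symm
  · refine ModFlat16.hom_ext_of_generating G hG fun Y hY x => ?_
    let i : ι := ⟨⟨Y, hY⟩, x⟩
    let j : ModSite.freeOn (O.over U) Y ⟶ ∐ T := telι (smulEnd s _) 0 ≫ Sigma.ι T i
    let p : (∐ T) ⟶ N :=
      Sigma.desc fun i => ext hN ((ModFlat16.freeOnHom (O.over U) i.1.1 N).symm i.2)
    have hj : j ≫ p = (ModFlat16.freeOnHom (O.over U) Y N).symm x := by
      show (telι (smulEnd s _) 0 ≫ Sigma.ι T i) ≫ p = _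
      rw [Category.assoc, Sigma.ι_desc]
      exact telι_ext hN _
    have e : (ModFlat16.freeOnHom (O.over U) Y N).symm x ≫ a =
        (ModFlat16.freeOnHom (O.over U) Y N).symm x ≫ b := by
      rw [← hj, Category.assoc, Category.assoc]
      exact congrArg (j ≫ ·) hab
    have e' := congrArg (ModFlat16.freeOnHom (O.over U) Y P) e
    rwa [ModFlat16.freeOnHom_comp, ModFlat16.freeOnHom_comp, Equiv.apply_symm_apply] at e'

end Groth.Agent.DerVanish9
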